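import Groth.Agent.H13AlgSp.TopInv
import Groth.Agent.H12AlgSp.GlueSheaf
import Groth.Agent.H12AlgSp.LimitScheme
import Groth.Agent.S10044
import Groth.Prelude.Def_AlgSpOX2

/-!
The small étale site is invariant under integral, universally injective, surjective morphisms.
-/

set_option autoImplicit false
set_option backward.isDefEq.respectTransparency false
set_option linter.style.haveILetI false
universe u

open CategoryTheory CategoryTheory.Limits AlgebraicGeometry Opposite Topology
open AlgSp Groth.Agent.H12AlgSp Groth.Agent.H13AlgSp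

namespace Groth.Agent.H13UHomeo

variable {S : Scheme.{u}} {X Y : Sp S} {f : X ⟶ Y} (hX : IsAlgSpace X) (hY : IsAlgSpace Y)
  (h1 : IsIntegralMor f) (h2 : IsUnivInjectiveMor f) (h3 : IsSurjectiveMor f)

include hY h1 h2 h3 in
/-- A space etale over the target whose base change is a scheme is a scheme. -/
theorem exists_iso_scheme {U : Over S} {V' : Sp S} (hV' : IsAlgSpace V') {a : V' ⟶ Y}
    {b : (yon S).obj U ⟶ X} {c : (yon S).obj U ⟶ V'} (sq : IsPullback b c f a) :
    ∃ (T : Over S) (μ : (yon S).obj T ⟶ V'), IsIso μ := by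
  have hc := TopInv.isHomeomorph_baseChange h1 h2 h3 hV' sq
  have hcu : IsUnivClosedMor c := univSp_of_isPullback sq (isIntegralMor_iff_affine_univClosed.1 h1).2
  have key : ∀ u : U.left, ∃ (T : Over S) (j : (yon S).obj T ⟶ V'), RepWith @IsOpenImmersion j ∧
      Points.ofPt c u ∈ Set.range (Points.map j) := fun u => by
    obtain ⟨A, hA, huA, -⟩ := exists_isAffineOpen_mem_and_subset (x := u) (U := (⊤ : U.left.Opens)) trivial
    let κ := openIncl U A
    have hκ : RepWith @IsOpenImmersion ((yon S).map κ) :=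
      (repWith_yon_map_iff _ κ).2 (inferInstanceAs (IsOpenImmersion A.ι))
    let O : Set (Points V') := Points.map c '' Set.range (Points.map ((yon S).map κ))
    have hO : IsOpen O := hc.isOpenMap _
      (isOpenMap_map_of_repWith (fun _ _ g (_ : IsOpenImmersion g) => inferInstance) hκ).isOpen_range
    have hι := repWith_openSubι (X := V') hO
    have hV'' : IsAlgSpace (openSub O) := isAlgSpace_openSub hV' hO
    have sqO := IsPullback.of_hasPullback c (openSubι O)
    have hfst : RepWith @IsOpenImmersion (pullback.fst c (openSubι O)) := repWith_of_isPullback sqO.flip hι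
    have hrange : Set.range (Points.map (pullback.fst c (openSubι O))) = Set.range (Points.map ((yon S).map κ)) := by
      rw [range_snd_of_isPullback sqO.flip, range_openSubι hV', Set.preimage_image_eq _ hc.bijective.1]
    obtain ⟨e, he⟩ := exists_iso_of_range_eq hκ hfst hrange.symm
    have sqA : IsPullback ((yon S).map κ) (e.hom ≫ pullback.snd c (openSubι O)) c (openSubι O) :=
      IsPullback.of_iso sqO e.symm (Iso.refl _) (Iso.refl _) (Iso.refl _) (by simp [← he]) (by simp) (by simp) (by simp)
    have hsurj : Function.Surjective (Points.map (e.hom ≫ pullback.snd c (openSubι O))) := fun z => by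
      obtain ⟨x, hx⟩ := hc.bijective.2 (Points.map (openSubι O) z)
      obtain ⟨w, -, hw⟩ := exists_point_of_isPullback sqA x z hx
      exact ⟨w, hw⟩
    obtain ⟨T, hT, ⟨eT⟩⟩ := Groth.Agent.S10044.result S (X := ⟨_, IsAlgSpace.yon_obj (openOver U A)⟩)
      (Y := ⟨openSub O, hV''⟩) (ObjectProperty.homMk (e.hom ≫ pullback.snd c (openSubι O))) hsurj
      (univSp_of_isPullback sqA hcu) ⟨openOver U A, hA, ⟨Iso.refl _⟩⟩
    refine ⟨T, eT.hom ≫ openSubι O, repWith_comp (repWith_of_isIso _) hι, ?_⟩
    have hu : Points.ofPt c u ∈ Set.range (Points.map (openSubι O)) := by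
      rw [range_openSubι hV']
      refine ⟨Points.ofScheme U u, ⟨Points.ofScheme _ ⟨u, huA⟩, ?_⟩, (Points.ofPt_eq_map_ofScheme _ _).symm⟩
      rw [← Points.ofPt_eq_map_ofScheme, ← Category.comp_id ((yon S).map κ), ofPt_map, Points.ofPt_eq_map_ofScheme,
        Points.map_id]
      rfl
    obtain ⟨w, hw⟩ := hu
    refine ⟨Points.map eT.inv w, ?_⟩
    rw [← Points.map_comp, eT.inv_hom_id_assoc, hw]
  choose T j hj hmem using key
  exact exists_iso_of_openCover T j hj fun W y t => by
    obtain ⟨p, hp⟩ := hc.bijective.2 (Points.ofPt y t)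
    obtain ⟨u, rfl⟩ : ∃ u, Points.ofScheme U u = p := ⟨_, Points.ofScheme_toScheme U p⟩
    exact ⟨u, hp ▸ (Points.ofPt_eq_map_ofScheme c u) ▸ hmem u⟩

include hX hY h1 h2 h3 in
/-- Base change along an integral, universally injective, surjective morphism is an equivalence of étale sites. -/
theorem isEquivalence_bc (hf : Representable f) : (EtOver.bc hf).IsEquivalence where
  faithful := ⟨fun {E E'} g g' hgg => by
    have sq₁ := EtOver.isPullback_bcObj hf E
    have sq₂ := EtOver.isPullback_bcObj hf E'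
    obtain ⟨φ', -, huniq⟩ := TopInv.fullyFaithful hX hY h1 h2 h3 (IsAlgSpace.yon_obj _) (IsAlgSpace.yon_obj _)
      (IsAlgSpace.yon_obj _) (isEtaleMor_of_repWith _ E'.property) sq₁ sq₂
      ((yon S).map ((EtOver.bc hf).map g).hom.left) (EtOver.w _)
    have key : ∀ k : E ⟶ E', (EtOver.bc hf).map k = (EtOver.bc hf).map g → (yon S).map k.hom.left = φ' := by
      intro k hk
      refine huniq _ ⟨EtOver.w k, ?_⟩
      rw [← hk, ← Functor.map_comp, ← Functor.map_comp]
      exact congrArg _ (EtOver.bcMap_snd hf k).symm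
    exact EtOver.hom_ext _ _ ((yon S).map_injective ((key g rfl).trans (key g' hgg.symm).symm))⟩
  full := ⟨fun {E E'} h => by
    have sq₁ := EtOver.isPullback_bcObj hf E
    have sq₂ := EtOver.isPullback_bcObj hf E'
    obtain ⟨φ', ⟨hφ₁, hφ₂⟩, -⟩ := TopInv.fullyFaithful hX hY h1 h2 h3 (IsAlgSpace.yon_obj _) (IsAlgSpace.yon_obj _)
      (IsAlgSpace.yon_obj _) (isEtaleMor_of_repWith _ E'.property) sq₁ sq₂ ((yon S).map h.hom.left) (EtOver.w h)
    obtain ⟨ψ, rfl⟩ := (yon S).map_surjective φ'
    refine ⟨EtOver.homMk ψ hφ₁, EtOver.hom_ext _ _ (hf.hom_ext (F := yon S) ?_ ?_)⟩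
    · exact (EtOver.w ((EtOver.bc hf).map (EtOver.homMk ψ hφ₁))).trans (EtOver.w h).symm
    · refine (EtOver.bcMap_snd hf _).trans ((yon S).map_injective ?_)
      rw [Functor.map_comp, Functor.map_comp]
      exact hφ₂⟩
  essSurj := ⟨fun E => by
    obtain ⟨V', a, c, hV', ha, sq⟩ := TopInv.essSurj hX hY h1 h2 h3 (IsAlgSpace.yon_obj E.obj.left)
      (isEtaleMor_of_repWith _ E.property)
    obtain ⟨T, μ, hμ⟩ := exists_iso_scheme hY h1 h2 h3 hV' sq
    let E' : EtOver Y := EtOver.mk (μ ≫ a) (ha μ (repWith_of_isIso μ))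
    have sq₁ := EtOver.isPullback_bcObj hf E'
    have sq' : IsPullback E.obj.hom (c ≫ inv μ) f (μ ≫ a) :=
      IsPullback.of_iso sq (Iso.refl _) (Iso.refl _) (asIso μ).symm (Iso.refl _) (by simp) (by simp) (by simp) (by simp)
    let e := sq₁.isoIsPullback _ _ sq'
    let e₀ := (yon S).preimageIso e
    exact ⟨E', ⟨ObjectProperty.isoMk _ (CostructuredArrow.isoMk e₀ (by
      show (yon S).map e₀.hom ≫ E.obj.hom = _
      simp only [e₀, Functor.preimageIso_hom, Functor.map_preimage]
      exact sq₁.isoIsPullback_hom_fst _ _ sq'))⟩⟩⟩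

include h1 h2 h3 in
/-- An object of the étale site is affine exactly when its base change is. -/
theorem isAffine_bc_iff (hf : Representable f) (E : EtOver Y) :
    IsAffine E.obj.left.left ↔ IsAffine ((EtOver.bc hf).obj E).obj.left.left := by
  have hi : IsIntegralHom (EtOver.bcπ hf E).left :=
    (isIntegralMor_iff.1 h1).property _ _ _ (hf.isPullback E.obj.hom)
  constructor
  · intro h
    exact isAffine_of_isAffineHom (EtOver.bcπ hf E).left
  · intro h
    have sq := EtOver.isPullback_bcObj hf E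
    have hc := TopInv.isHomeomorph_baseChange h1 h2 h3 (IsAlgSpace.yon_obj E.obj.left) sq
    obtain ⟨T, hT, ⟨eT⟩⟩ := Groth.Agent.S10044.result S (X := ⟨_, IsAlgSpace.yon_obj _⟩)
      (Y := ⟨_, IsAlgSpace.yon_obj E.obj.left⟩) (ObjectProperty.homMk ((yon S).map (EtOver.bcπ hf E)))
      hc.bijective.2 (univSp_of_isPullback sq (isIntegralMor_iff_affine_univClosed.1 h1).2)
      ⟨((EtOver.bc hf).obj E).obj.left, h, ⟨Iso.refl _⟩⟩
    haveI : IsAffine ((Over.forget S).obj T) := hT
    exact .of_isIso ((Over.forget S).map ((yon S).preimageIso eT).inv)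

end Groth.Agent.H13UHomeo
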