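import Groth.Agent.H12AlgSp.Approx.Eventually
import Groth.Agent.H12AlgSp.SchImage
import Groth.Agent.H12AlgSp.AffineLimit
import Groth.Agent.H12AlgSp.UnivClosedQC
import Groth.Agent.H12AlgSp.Proper
import Groth.Agent.H12AlgSp.Univ
import Groth.Agent.H12AlgSp.AbsInt.Base
import Groth.Agent.H12AlgSp.RepMisc
import Groth.Agent.H13AlgSp.FibreNoeth
import Groth.Agent.H13AlgSp.SepDecent
import Groth.Agent.H12AlgSp.FiniteTypeCriteria

/-!
Separated universal homeomorphisms of algebraic spaces are representable and integral.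
-/

set_option autoImplicit false
set_option backward.isDefEq.respectTransparency false
set_option linter.style.haveILetI false
universe u

open CategoryTheory CategoryTheory.Limits AlgebraicGeometry Opposite Topology
open AlgSp Groth.Agent.H12AlgSp Groth.Agent.H13AlgSp

namespace Groth.Agent.H13UHomeo

variable {S : Scheme.{u}} [QuasiSeparatedSpace S]

theorem isUnivClosedMor_of_isUnivHomeoMor {X Y : Sp S} {f : X ⟶ Y} (h : IsUnivHomeoMor f) : IsUnivClosedMor f :=
  fun _ _ hZ g fst snd sq => (h hZ g fst snd sq).isClosedMap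

/-- A separated universal homeomorphism onto an affine scheme has an affine source. -/
theorem exists_affine_of_univHomeo {P : Sp S} (hP : IsAlgSpace P) {T : Over S} [IsAffine T.left]
    {s : P ⟶ (yon S).obj T} (hsep : IsSeparatedMor s) (hh : IsUnivHomeoMor s) :
    ∃ W : Over S, IsAffine W.left ∧ Nonempty ((yon S).obj W ≅ P) := by
  have hT : IsAlgSpace ((yon S).obj T) := IsAlgSpace.yon_obj T
  have hTc : IsQuasiCompactSp ((yon S).obj T) := isQuasiCompactSp_yon_iff.2 inferInstance
  have hTs : IsQuasiSeparatedSp ((yon S).obj T) := isQuasiSeparatedSp_yon_of_isAffine inferInstance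
  have huc := isUnivClosedMor_of_isUnivHomeoMor hh
  have hPc : IsQuasiCompactSp P :=
    Approx.isQuasiCompactSp_of_mor (isQuasiCompactMor_of_isUnivClosedMor hP hT huc) hT hTc
  have hPs : IsQuasiSeparatedSp P := isQuasiSeparatedSp_of_mor (isQuasiSeparatedMor_of_isSeparatedMor hsep) hTs
  obtain ⟨Φ⟩ := Approx.exists_limit_fp_over s hP hT hPc hPs hTs
  obtain ⟨i₀⟩ : Nonempty Φ.Iᵒᵖ := ⟨op Φ.nonempty.some⟩
  obtain ⟨l₀, hl₀⟩ := eventually_isSeparatedMor (fun i => Φ.alg i) Φ.affine Φ.isLimit hT hTs (Φ.t.app i₀)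
    (Φ.qc i₀) (Φ.qs i₀) (by rw [Φ.fac]; exact hsep)
  let k : Φ.Iᵒᵖ := l₀.left
  have ht : IsSeparatedMor (Φ.t.app k) := by
    have h := hl₀ l₀.left (𝟙 _)
    rw [Category.id_comp, Φ.t.naturality] at h
    simpa using h
  let π : P ⟶ Φ.D.obj k := Φ.π.app k
  have hfac : π ≫ Φ.t.app k = s := Φ.fac k
  have hπa : RepWith @IsAffineHom π := isAffineMor_iff.1
    fun _ hW g => exists_pullback_proj (c := Cone.mk P Φ.π) Φ.affine Φ.isLimit k hW g
  have hπqc : IsQuasiCompactMor π := isQuasiCompactMor_of_qc_qs hP (Φ.alg k) π hPc (Φ.qs k)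
  have hπc : IsUnivClosedMor π := Groth.Agent.H12AlgSp.isUnivClosedMor_of_comp hP (Φ.alg k) hT (hfac.symm ▸ huc) ht
  obtain ⟨Z, i, hZ, hi⟩ := exists_isSchImage hP (Φ.alg k) π
  have hrange := range_schImage_subset hP (Φ.alg k) hπqc hZ hi
  obtain ⟨hic, ⟨p, hp⟩, -⟩ := hi
  haveI := mono_of_closedImmersion hic
  have hclosed : IsClosed (Set.range (Points.map π)) :=
    (hπc (Φ.alg k) (𝟙 _) (𝟙 _) π (IsPullback.of_horiz_isIso ⟨by simp⟩)).isClosed_range
  have hpsurj : Function.Surjective (Points.map p) := fun z => by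
    obtain ⟨x, hx⟩ := hclosed.closure_eq.le (hrange ⟨z, rfl⟩)
    exact ⟨x, injective_map_of_mono i (by rw [← Points.map_comp, hp, hx])⟩
  let z : Z ⟶ (yon S).obj T := i ≫ Φ.t.app k
  have hpz : p ≫ z = s := by rw [← Category.assoc, hp, hfac]
  have hzuc : IsUnivClosedMor z := isUnivClosedMor_of_surjective (f := p) (hpz.symm ▸ huc) hpsurj
  have hzsep : IsSeparatedMor z := isSeparatedMor_comp
    (isSeparatedMor_of_repWith (repWith_le (fun _ _ g (_ : IsClosedImmersion g) => inferInstanceAs (IsSeparated g)) hic))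
    ht
  have hzft : LocP @LocallyOfFiniteType z := Groth.Agent.H12AlgSp.locP_comp etLocal_lft hZ (Φ.alg k) hT
    (locP_of_repWith etLocal_lft
      (repWith_le (fun _ _ g (_ : IsClosedImmersion g) => inferInstanceAs (LocallyOfFiniteType g)) hic))
    (locP_mono (fun _ _ g (_ : LocallyOfFinitePresentation g) => inferInstanceAs (LocallyOfFiniteType g)) (Φ.fp k).1)
  have hfin : IsFiniteMor z := by
    refine ((isFiniteMor_tfae hZ hT z).out 0 3 rfl rfl).2
      ⟨hzuc, hzsep, hzft, fun r Xk fst snd sq => ?_⟩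
    have hR : IsAlgSpace ((yon S).obj r.pt) := IsAlgSpace.yon_obj r.pt
    have sq' : IsPullback (pullback.fst p fst) (pullback.snd p fst ≫ snd) (p ≫ z) r.toHom :=
      (IsPullback.of_hasPullback p fst).paste_vert sq
    rw [hpz] at sq'
    have hhom := hh hR r.toHom _ _ sq'
    haveI : Subsingleton (Points ((yon S).obj r.pt)) := subsingleton_points_spec r.str
    haveI : Subsingleton (Points (pullback p fst)) := hhom.injective.subsingleton
    have hs : Function.Surjective (Points.map (pullback.snd p fst)) := fun y => by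
      obtain ⟨x, hx⟩ := hpsurj (Points.map fst y)
      obtain ⟨w, -, hw⟩ := exists_point_of_isPullback (IsPullback.of_hasPullback p fst) x y hx
      exact ⟨w, hw⟩
    haveI : Subsingleton (Points Xk) := hs.subsingleton
    exact inferInstance
  obtain ⟨W₁, w₁, fst₁, sq₁, hW₁⟩ :=
    isAffineMor_iff.2 (repWith_le (fun _ _ g (_ : IsFinite g) => inferInstanceAs (IsAffineHom g))
      (isFiniteMor_iff.1 hfin)) (inferInstance : IsAffine T.left) (𝟙 _)
  haveI : IsIso fst₁ := sq₁.isIso_fst_of_isIso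
  have hpa : RepWith @IsAffineHom p := repWith_of_comp_mono hπa hp
  obtain ⟨W₂, w₂, fst₂, sq₂, hW₂⟩ := isAffineMor_iff.2 hpa hW₁ fst₁
  haveI : IsIso fst₂ := sq₂.isIso_fst_of_isIso
  exact ⟨W₂, hW₂, ⟨asIso fst₂⟩⟩

/-- Separated universal homeomorphisms are integral. -/
theorem repWith_integral_of_univHomeo {X Y : Sp S} (hX : IsAlgSpace X) (hY : IsAlgSpace Y) {f : X ⟶ Y}
    (hsep : IsSeparatedMor f) (hh : IsUnivHomeoMor f) : RepWith @IsIntegralHom f := by
  refine repWith_of_affine_base fun T hT g => ?_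
  haveI := hT
  have sq := IsPullback.of_hasPullback f g
  have hPalg := isAlgSpace_of_isPullback hY.diag hX (IsAlgSpace.yon_obj T) sq
  have hsepP : IsSeparatedMor (pullback.snd f g) := isSeparatedMor_of_isPullback sq hsep
  have hhP : IsUnivHomeoMor (pullback.snd f g) := univSp_of_isPullback sq hh
  obtain ⟨W, hW, ⟨e⟩⟩ := exists_affine_of_univHomeo hPalg hsepP hhP
  obtain ⟨i, hi⟩ := (yon S).map_surjective (e.hom ≫ pullback.snd f g)
  have sqW : IsPullback (e.hom ≫ pullback.fst f g) ((yon S).map i) f g :=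
    IsPullback.of_iso sq e.symm (Iso.refl _) (Iso.refl _) (Iso.refl _) (by simp) (by simp [hi]) (by simp) (by simp)
  refine ⟨W, i, _, sqW, ?_⟩
  haveI := hW
  have hrep : Representable ((yon S).map i) := ((repWith_yon_map_iff (⊤ : MorphismProperty Scheme.{u}) i).2 trivial).1
  haveI : UniversallyClosed i.left := (repWith_yon_map_iff _ i).1
    ((repWith_universallyClosed_iff hrep).2 (univSp_of_isPullback sqW (isUnivClosedMor_of_isUnivHomeoMor hh)))
  exact IsIntegralHom.iff_universallyClosed_and_isAffineHom.2 ⟨inferInstance, inferInstance⟩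

end Groth.Agent.H13UHomeo
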